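import Groth.Prelude.Def_Versch
import Groth.Prelude.Def_SGA3b
import Mathlib

/-!
# `V ∘ F = p` for finite commutative cocommutative Hopf algebras
-/

universe u

open TensorProduct Coalgebra WithConv

noncomputable section

namespace Groth.Agent.VerschLib29

variable {R : Type u} [CommRing R] {A : Type u} [CommRing A] [HopfAlgebra R A]

theorem powConv_zero_apply (b : A) : SGA3b.powConv R A 0 b = algebraMap R A (counit b) := by
  rw [SGA3b.powConv, pow_zero]
  exact AlgHom.convOne_apply b

theorem powConv_succ_apply (n : ℕ) (b : A) :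
    SGA3b.powConv R A (n + 1) b = LinearMap.mul' R A
      (TensorProduct.map (SGA3b.powConv R A n).toLinearMap LinearMap.id (Coalgebra.comul b)) := by
  rw [SGA3b.powConv, pow_succ]
  rfl

theorem toConv_powConv (n : ℕ) :
    toConv (SGA3b.powConv R A n).toLinearMap = (toConv (LinearMap.id : A →ₗ[R] A)) ^ n := by
  induction n with
  | zero =>
    refine WithConv.ext (LinearMap.ext fun b => ?_)
    rw [pow_zero]
    exact (powConv_zero_apply b).trans rfl
  | succ n ih =>
    rw [pow_succ, ← ih]
    refine WithConv.ext (LinearMap.ext fun b => ?_)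
    show SGA3b.powConv R A (n + 1) b = _
    rw [powConv_succ_apply]
    exact (LinearMap.convMul_apply _ _ b).symm

theorem powConv_mul (m n : ℕ) (a : A) :
    SGA3b.powConv R A (m * n) a = SGA3b.powConv R A m (SGA3b.powConv R A n a) := by
  have h : ∀ (h : A →ₐ[R] A) (j : ℕ), h.comp (SGA3b.powConv R A j) = ofConv ((toConv h) ^ j) := by
    intro h j
    induction j with
    | zero =>
      refine AlgHom.ext fun b => ?_
      show h ((1 : WithConv (A →ₐ[R] A)) b) = (1 : WithConv (A →ₐ[R] A)) b
      rw [AlgHom.convOne_apply, AlgHom.commutes]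
    | succ j ih =>
      rw [pow_succ, SGA3b.powConv, pow_succ, AlgHom.comp_convMul_distrib,
        show ofConv (toConv (AlgHom.id R A) ^ j) = SGA3b.powConv R A j from rfl, ih]
      rfl
  rw [← AlgHom.comp_apply, h]
  conv_lhs => rw [SGA3b.powConv, pow_mul]
  rfl

theorem smulRight_pow (φ : CartDual.D R A) (e : A) (m : ℕ) (a : A) :
    ((toConv (φ.ofConv.smulRight e)) ^ m : WithConv (A →ₗ[R] A)).ofConv a = (φ ^ m).ofConv a • e ^ m := by
  induction m generalizing a with
  | zero => simp [LinearMap.convOne_def, Algebra.smul_def]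
  | succ m ih =>
    rw [pow_succ, pow_succ, pow_succ]
    let r := ℛ R a
    rw [r.convMul_apply, r.convMul_apply, Finset.sum_smul]
    exact Finset.sum_congr rfl fun i _ => by rw [ih]; simp [smul_smul, mul_comm]

variable [Coalgebra.IsCocomm R A]

/-- In characteristic `p` the `p`-th power map is `a ↦ ∑ φᵢ^p(a) eᵢ^p` for any dual basis. -/
theorem powConv_prime_apply (p : ℕ) [Fact p.Prime] [CharP R p] [CharP A p] {n : ℕ} (φ : Fin n → CartDual.D R A)
    (e : Fin n → A) (hid : ∀ a, ∑ i, (φ i).ofConv a • e i = a) (a : A) :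
    SGA3b.powConv R A p a = ∑ i, ((φ i) ^ p).ofConv a • e i ^ p := by
  haveI : Nontrivial A := CharP.nontrivial_of_char_ne_one (v := p) (Fact.out (p := p.Prime)).ne_one
  haveI : Nontrivial (WithConv (A →ₗ[R] A)) := ⟨1, 0, fun h => one_ne_zero (α := A) (by
    have h1 := congrArg (fun x : WithConv (A →ₗ[R] A) => x.ofConv 1) h
    simpa [LinearMap.convOne_def] using h1)⟩
  haveI : CharP (WithConv (A →ₗ[R] A)) p := (CharP.charP_iff_prime_eq_zero (Fact.out (p := p.Prime))).2 (by
    rw [← map_natCast (algebraMap R (WithConv (A →ₗ[R] A))), CharP.cast_eq_zero, map_zero])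
  have hsum : (toConv (LinearMap.id : A →ₗ[R] A)) = ∑ i, toConv ((φ i).ofConv.smulRight (e i)) := by
    refine WithConv.ext (LinearMap.ext fun b => ?_)
    simp [hid b]
  have h := congrArg (fun x : WithConv (A →ₗ[R] A) => x.ofConv a) ((toConv_powConv (R := R) (A := A) p).trans (by
    rw [hsum, sum_pow_char p]))
  simp only [WithConv.ofConv_sum, LinearMap.sum_apply, smulRight_pow] at h
  exact h

variable (R A) in
theorem exists_dualBasis [Module.Finite R A] [Module.Projective R A] :
    ∃ (n : ℕ) (φ : Fin n → CartDual.D R A) (e : Fin n → A), ∀ a, ∑ i, (φ i).ofConv a • e i = a := by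
  obtain ⟨n, π, hπ⟩ := Module.Finite.exists_fin' R A
  obtain ⟨s, hs⟩ := Module.projective_lifting_property π LinearMap.id hπ
  refine ⟨n, fun i => toConv ((LinearMap.proj i).comp s), fun i => π (Pi.single i 1), fun a => ?_⟩
  calc ∑ i, s a i • π (Pi.single i 1) = π (∑ i, s a i • Pi.single i 1) := by simp [map_sum]
    _ = π (s a) := by
      congr 1
      ext j
      simp [Finset.sum_apply, Pi.single_apply]
    _ = a := LinearMap.congr_fun hs a

theorem relFrob_tmul (p : ℕ) [Fact p.Prime] [CharP R p] [CharP A p] (b : A) (s : FrobAlg.Twist p R) :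
    FrobAlg.relFrob p R A (b ⊗ₜ s) = b ^ p * algebraMap R A ((FrobAlg.toTwist p R).symm s) := by
  simp [FrobAlg.relFrob, FrobAlg.frobHom, FrobAlg.inclHom, Algebra.TensorProduct.lift_tmul]
  rfl

/-- The relative Frobenius in terms of the pairing with a dual basis. -/
theorem relFrob_eq_sum (p : ℕ) [Fact p.Prime] [CharP R p] [CharP A p] {n : ℕ} (φ : Fin n → CartDual.D R A)
    (e : Fin n → A) (hid : ∀ a, ∑ i, (φ i).ofConv a • e i = a) (z : FrobAlg.BaseChange p R A) :
    FrobAlg.relFrob p R A z = ∑ i, (FrobAlg.toTwist p R).symm (Versch.evTw p R A (φ i) z) • e i ^ p := by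
  induction z using TensorProduct.induction_on with
  | zero => simp
  | tmul b s =>
    rw [relFrob_tmul]
    simp only [Versch.evTw_tmul', map_mul, RingEquiv.symm_apply_apply]
    conv_lhs => rw [← hid b, sum_pow_char p, Finset.sum_mul]
    refine Finset.sum_congr rfl fun i _ => ?_
    rw [CartDual.coe_apply, smul_pow, smul_mul_assoc, mul_comm (e i ^ p), ← Algebra.smul_def, smul_smul]
  | add x y hx hy => simp only [map_add, hx, hy, add_smul, Finset.sum_add_distrib]

variable (p : ℕ) [Fact p.Prime] [CharP R p] [CharP A p] [Module.Finite R A] [Module.Projective R A]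
  {v : A →+* FrobAlg.BaseChange p R A}

/-- `F* ∘ v` is the `p`-th convolution power of the identity. -/
theorem relFrob_verschiebung (hv : Versch.IsVerschiebung p R A v) (a : A) :
    FrobAlg.relFrob p R A (v a) = SGA3b.powConv R A p a := by
  obtain ⟨n, φ, e, hid⟩ := exists_dualBasis R A
  rw [relFrob_eq_sum p φ e hid, powConv_prime_apply p φ e hid]
  refine Finset.sum_congr rfl fun i _ => ?_
  rw [(Versch.isVerschiebung_iff p R A v).1 hv a (φ i), RingEquiv.symm_apply_apply]

/-- The Verschiebung is linear over the base. -/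
theorem verschiebung_algebraMap (hv : Versch.IsVerschiebung p R A v) (r : R) :
    v (algebraMap R A r) = (1 : A) ⊗ₜ FrobAlg.toTwist p R r := by
  refine Versch.evTw_injective p R A fun x => ?_
  rw [(Versch.isVerschiebung_iff p R A v).1 hv, Versch.evTw_tmul', ← map_mul, CartDual.coe_apply, CartDual.coe_apply,
    Algebra.algebraMap_eq_smul_one, map_smul, smul_eq_mul, mul_comm]
  congr 1
  have h : ∀ m : ℕ, (x ^ m).ofConv 1 = x.ofConv 1 ^ m := by
    intro m
    induction m with
    | zero => simp [LinearMap.convOne_def]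
    | succ m ih =>
      rw [pow_succ, pow_succ, LinearMap.convMul_apply, Bialgebra.comul_one, Algebra.TensorProduct.one_def,
        TensorProduct.map_tmul, LinearMap.mul'_apply, ih]
  rw [h]

theorem baseChange_powConv (T : Type u) [CommRing T] [Algebra R T] (n : ℕ) (t : T) (b : A) :
    SGA3b.powConv T (T ⊗[R] A) n (t ⊗ₜ b) = t ⊗ₜ SGA3b.powConv R A n b := by
  have key : ∀ (n : ℕ) (b : A), SGA3b.powConv T (T ⊗[R] A) n ((1 : T) ⊗ₜ b) = (1 : T) ⊗ₜ SGA3b.powConv R A n b := by
    intro n
    induction n with
    | zero =>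
      intro b
      rw [powConv_zero_apply, powConv_zero_apply, TensorProduct.counit_tmul, CommSemiring.counit_apply,
        Algebra.TensorProduct.algebraMap_apply, Algebra.algebraMap_self, RingHom.id_apply,
        Algebra.smul_def, mul_one, Algebra.algebraMap_eq_smul_one (R := R) (A := A), ← TensorProduct.smul_tmul,
        Algebra.smul_def, mul_one]
    | succ n ih =>
      intro b
      let r := ℛ R b
      rw [powConv_succ_apply, powConv_succ_apply, TensorProduct.comul_tmul, CommSemiring.comul_apply, ← r.eq,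
        TensorProduct.tmul_sum, map_sum, map_sum, map_sum, map_sum, map_sum, TensorProduct.tmul_sum]
      refine Finset.sum_congr rfl fun i _ => ?_
      simp only [AlgebraTensorModule.tensorTensorTensorComm_tmul, TensorProduct.map_tmul, LinearMap.mul'_apply,
        AlgHom.toLinearMap_apply, LinearMap.id_apply, ih, Algebra.TensorProduct.tmul_mul_tmul, mul_one]
  calc SGA3b.powConv T (T ⊗[R] A) n (t ⊗ₜ b)
      = SGA3b.powConv T (T ⊗[R] A) n (t • ((1 : T) ⊗ₜ b)) := by rw [TensorProduct.smul_tmul', smul_eq_mul, mul_one]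
    _ = t • ((1 : T) ⊗ₜ SGA3b.powConv R A n b) := by rw [map_smul, key]
    _ = t ⊗ₜ SGA3b.powConv R A n b := by rw [TensorProduct.smul_tmul', smul_eq_mul, mul_one]

/-- `v ∘ F*` is the `p`-th convolution power of the identity of the twisted Hopf algebra. -/
theorem verschiebung_relFrob (hv : Versch.IsVerschiebung p R A v) (b : A) (s : FrobAlg.Twist p R) :
    v (FrobAlg.relFrob p R A (b ⊗ₜ s)) = SGA3b.powConv R A p b ⊗ₜ s := by
  haveI : Nontrivial A := CharP.nontrivial_of_char_ne_one (v := p) (Fact.out (p := p.Prime)).ne_one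
  haveI : CharP (FrobAlg.BaseChange p R A) p := by
    haveI : Nontrivial (FrobAlg.BaseChange p R A) := by
      refine ⟨1, 0, fun h => ?_⟩
      have := congrArg (Algebra.TensorProduct.lift (FrobAlg.frobHom p R A) (FrobAlg.inclHom p R A) (fun _ _ => Commute.all _ _)) h
      rw [map_one, map_zero] at this
      exact one_ne_zero (α := A) this
    refine (CharP.charP_iff_prime_eq_zero (Fact.out (p := p.Prime))).2 ?_
    rw [← map_natCast (algebraMap R (FrobAlg.BaseChange p R A)), CharP.cast_eq_zero, map_zero]
  have hfrob : ∀ z : FrobAlg.BaseChange p R A, z ^ p = FrobAlg.relFrob p R A z ⊗ₜ (1 : FrobAlg.Twist p R) := by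
    intro z
    induction z using TensorProduct.induction_on with
    | zero => rw [map_zero, zero_tmul, zero_pow (Fact.out (p := p.Prime)).ne_zero]
    | tmul b s =>
      rw [Algebra.TensorProduct.tmul_pow, relFrob_tmul, mul_comm, ← Algebra.smul_def, TensorProduct.smul_tmul,
        Algebra.smul_def, mul_one, FrobAlg.algebraMap_twist, ← map_pow]
      simp
    | add x y hx hy => rw [add_pow_char x y p, hx, hy, map_add, add_tmul]
  rw [relFrob_tmul, map_mul, map_pow, hfrob, relFrob_verschiebung p hv, verschiebung_algebraMap p hv,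
    RingEquiv.apply_symm_apply, Algebra.TensorProduct.tmul_mul_tmul, mul_one, one_mul]

end Groth.Agent.VerschLib29
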