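import Groth.Prelude.Def_Versch
import Mathlib

/-!
# Étale finite algebras in characteristic `p` and the Verschiebung
-/

universe u v w

open TensorProduct

noncomputable section

namespace Groth.Agent.VerschLib29

variable (p : ℕ) [Fact p.Prime] (k : Type u) [Field k] [CharP k p]

section Etale

variable (D : Type w) [CommRing D] [Algebra k D]

theorem etale_of_span_pow_eq_top [CharP D p] [FiniteDimensional k D]
    (h : Submodule.span k (Set.range fun x : D => x ^ p) = ⊤) : Algebra.Etale k D := by
  haveI : Algebra.FormallyUnramified k D := by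
    rw [Algebra.formallyUnramified_iff]
    have hD : ∀ x : D, KaehlerDifferential.D k D x = 0 := by
      intro x
      have hx : x ∈ Submodule.span k (Set.range fun x : D => x ^ p) := h ▸ Submodule.mem_top
      induction hx using Submodule.span_induction with
      | mem y hy =>
        obtain ⟨z, rfl⟩ := hy
        rw [Derivation.leibniz_pow, ← Nat.cast_smul_eq_nsmul D, CharP.cast_eq_zero, zero_smul]
      | zero => exact map_zero _
      | add a b _ _ ha hb => rw [map_add, ha, hb, add_zero]
      | smul r a _ ha => rw [Derivation.map_smul, ha, smul_zero]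
    have hbot : (⊤ : Submodule D (Ω[D⁄k])) = ⊥ := by
      rw [← KaehlerDifferential.span_range_derivation, Submodule.span_eq_bot]
      rintro _ ⟨x, rfl⟩
      exact hD x
    exact ⟨fun a b => (Submodule.eq_bot_iff _).1 hbot a Submodule.mem_top |>.trans
      ((Submodule.eq_bot_iff _).1 hbot b Submodule.mem_top).symm⟩
  haveI := Algebra.FormallyEtale.of_formallyUnramified_of_field k D
  exact ⟨inferInstance, Algebra.FinitePresentation.of_finiteType.mp inferInstance⟩

theorem relFrob_pow_eq [CharP D p] (z : FrobAlg.BaseChange p k D) :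
    z ^ p = FrobAlg.relFrob p k D z ⊗ₜ (1 : FrobAlg.Twist p k) := by
  haveI : Nontrivial D := CharP.nontrivial_of_char_ne_one (v := p) (Fact.out (p := p.Prime)).ne_one
  have htriv : Nontrivial (FrobAlg.BaseChange p k D) := by
    refine ⟨1, 0, fun h => ?_⟩
    have := congrArg (FrobAlg.relFrob p k D) h
    rw [map_one, map_zero] at this
    exact one_ne_zero (α := D) this
  haveI : CharP (FrobAlg.BaseChange p k D) p := (CharP.charP_iff_prime_eq_zero (Fact.out (p := p.Prime))).2 (by
    rw [← map_natCast (algebraMap k (FrobAlg.BaseChange p k D)), CharP.cast_eq_zero, map_zero])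
  induction z using TensorProduct.induction_on with
  | zero => rw [map_zero, zero_tmul, zero_pow (Fact.out (p := p.Prime)).ne_zero]
  | tmul b s =>
    have hr : FrobAlg.relFrob p k D (b ⊗ₜ s) = b ^ p * algebraMap k D ((FrobAlg.toTwist p k).symm s) := by
      simp [FrobAlg.relFrob, FrobAlg.frobHom, FrobAlg.inclHom, Algebra.TensorProduct.lift_tmul]
      rfl
    rw [Algebra.TensorProduct.tmul_pow, hr, mul_comm, ← Algebra.smul_def, TensorProduct.smul_tmul,
      Algebra.smul_def, mul_one, FrobAlg.algebraMap_twist, ← map_pow]
    simp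
  | add x y hx hy => rw [add_pow_char x y p, hx, hy, map_add, add_tmul]

theorem span_pow_eq_top_of_etale [CharP D p] [FiniteDimensional k D] [Algebra.Etale k D] :
    Submodule.span k (Set.range fun x : D => x ^ p) = ⊤ := by
  let b := Module.finBasis k D
  let L : (Fin (Module.finrank k D) → k) →ₗ[k] D := Fintype.linearCombination k (fun i => b i ^ p)
  let T := FrobAlg.Twist p k
  letI : Field (FrobAlg.Twist p k) := ((FrobAlg.toTwist p k).symm.toMulEquiv.isField (Field.toIsField k)).toField
  haveI : IsReduced (T ⊗[k] D) := Algebra.FormallyUnramified.isReduced_of_field T (T ⊗[k] D)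
  haveI : IsReduced (FrobAlg.BaseChange p k D) :=
    isReduced_of_injective (Algebra.TensorProduct.comm k D T).toRingHom (Algebra.TensorProduct.comm k D T).injective
  have hinj : Function.Injective L := by
    rw [← LinearMap.ker_eq_bot, LinearMap.ker_eq_bot']
    intro c hc
    have hz : (∑ i, b i ⊗ₜ[k] FrobAlg.toTwist p k (c i) : FrobAlg.BaseChange p k D) = 0 := by
      refine IsReduced.eq_zero _ ⟨p, ?_⟩
      have hr : ∀ i, FrobAlg.relFrob p k D (b i ⊗ₜ FrobAlg.toTwist p k (c i)) = c i • b i ^ p := by
        intro i
        rw [Algebra.smul_def, mul_comm (algebraMap k D (c i))]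
        simp [FrobAlg.relFrob, FrobAlg.frobHom, FrobAlg.inclHom, Algebra.TensorProduct.lift_tmul]
        rfl
      rw [relFrob_pow_eq, map_sum, Finset.sum_congr rfl (fun i _ => hr i)]
      have : ∑ i, c i • b i ^ p = L c := by simp [L, Fintype.linearCombination_apply]
      rw [this, hc, zero_tmul]
    funext j
    have h := congrArg (fun z => TensorProduct.lid k T ((b.coord j).rTensor T z)) hz
    simp only [map_sum, LinearMap.rTensor_tmul, TensorProduct.lid_tmul, Module.Basis.coord_apply,
      Module.Basis.repr_self, map_zero] at h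
    rw [Finset.sum_eq_single j (fun i _ hij => by simp [hij]) (by simp)] at h
    simpa using h
  have hsurj : Function.Surjective L :=
    (LinearMap.injective_iff_surjective_of_finrank_eq_finrank (by simp)).1 hinj
  rw [eq_top_iff]
  intro x _
  obtain ⟨c, rfl⟩ := hsurj x
  simp only [L, Fintype.linearCombination_apply]
  exact Submodule.sum_mem _ fun i _ => Submodule.smul_mem _ _ (Submodule.subset_span ⟨b i, rfl⟩)

theorem etale_iff_span_pow [CharP D p] [FiniteDimensional k D] :
    Algebra.Etale k D ↔ Submodule.span k (Set.range fun x : D => x ^ p) = ⊤ :=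
  ⟨fun _ => span_pow_eq_top_of_etale p k D, etale_of_span_pow_eq_top p k D⟩

end Etale

variable (A : Type v) [CommRing A] [HopfAlgebra k A] [Coalgebra.IsCocomm k A] [FiniteDimensional k A]

theorem etale_dual_iff_bijective (v : A →+* FrobAlg.BaseChange p k A) (hv : Versch.IsVerschiebung p k A v) :
    Algebra.Etale k (CartDual.D k A) ↔ Function.Bijective v := by
  let b := Module.finBasis k A
  let φ : Fin (Module.finrank k A) → CartDual.D k A := fun i => WithConv.toConv (b.coord i)
  haveI : FiniteDimensional k (CartDual.D k A) := by infer_instance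
  rw [etale_iff_span_pow p k (CartDual.D k A)]
  let V : A →ₗ[k] (Fin (Module.finrank k A) → k) := LinearMap.pi fun i => ((φ i) ^ p).ofConv
  let P : FrobAlg.BaseChange p k A → (Fin (Module.finrank k A) → k) :=
    fun z i => (FrobAlg.toTwist p k).symm (Versch.evTw p k A (φ i) z)
  have hexp : ∀ z : FrobAlg.BaseChange p k A, z = ∑ i, b i ⊗ₜ[k] FrobAlg.toTwist p k (P z i) := by
    intro z
    simp only [P, RingEquiv.apply_symm_apply]
    induction z using TensorProduct.induction_on with
    | zero => simp
    | add x y hx hy => simp only [map_add, TensorProduct.tmul_add, Finset.sum_add_distrib, ← hx, ← hy]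
    | tmul a s =>
      conv_lhs => rw [← b.sum_repr a, TensorProduct.sum_tmul]
      refine Finset.sum_congr rfl fun i _ => ?_
      rw [TensorProduct.smul_tmul, Versch.evTw_tmul, Algebra.smul_def]
      rfl
  have hP : Function.Bijective P := by
    refine ⟨fun x y h => by rw [hexp x, hexp y, h], fun c => ⟨∑ i, b i ⊗ₜ FrobAlg.toTwist p k (c i), ?_⟩⟩
    funext j
    simp only [P, map_sum, Versch.evTw_tmul]
    rw [Finset.sum_eq_single j]
    · simp [φ, CartDual.coe_apply]
    · intro i _ hij
      simp [φ, CartDual.coe_apply, hij]
    · simp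
  have hPv : P ∘ v = V := by
    funext a i
    show (FrobAlg.toTwist p k).symm (Versch.evTw p k A (φ i) (v a)) = _
    rw [(Versch.isVerschiebung_iff p k A v).1 hv, RingEquiv.symm_apply_apply]
    rfl
  rw [show Function.Bijective v ↔ Function.Bijective (P ∘ v) from (Function.Bijective.of_comp_iff' hP v).symm, hPv]
  have hfr : Module.finrank k A = Module.finrank k (Fin (Module.finrank k A) → k) := by simp
  rw [show Function.Bijective V ↔ Function.Injective V from
    ⟨fun h => h.1, fun h => ⟨h, (LinearMap.injective_iff_surjective_of_finrank_eq_finrank hfr).1 h⟩⟩]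
  -- the span of the p-th powers is the span of the `φ i ^ p`
  have hspan : Submodule.span k (Set.range fun x : CartDual.D k A => x ^ p) =
      Submodule.span k (Set.range fun i => φ i ^ p) := by
    refine le_antisymm (Submodule.span_le.2 ?_) (Submodule.span_mono ?_)
    · rintro _ ⟨x, rfl⟩
      have hx : x = ∑ i, x.ofConv (b i) • φ i := by
        refine WithConv.ext (b.ext fun j => ?_)
        simp [φ]
      show x ^ p ∈ _
      rw [hx, sum_pow_char p]
      exact Submodule.sum_mem _ fun i _ => by
        rw [smul_pow]; exact Submodule.smul_mem _ _ (Submodule.subset_span ⟨i, rfl⟩)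
    · rintro _ ⟨i, rfl⟩
      exact ⟨φ i, rfl⟩
  rw [hspan]
  constructor
  · intro h
    rw [← LinearMap.ker_eq_bot, LinearMap.ker_eq_bot']
    intro a ha
    refine (Module.forall_dual_apply_eq_zero_iff k a).1 fun f => ?_
    have hf : WithConv.toConv f ∈ Submodule.span k (Set.range fun i => φ i ^ p) := h ▸ Submodule.mem_top
    have key : ∀ x ∈ Submodule.span k (Set.range fun i => φ i ^ p), x.ofConv a = 0 := by
      intro x hx
      induction hx using Submodule.span_induction with
      | mem y hy => obtain ⟨i, rfl⟩ := hy; exact congrFun ha i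
      | zero => rfl
      | add x y _ _ hx hy => rw [WithConv.ofConv_add, LinearMap.add_apply, hx, hy, add_zero]
      | smul r x _ hx => rw [WithConv.ofConv_smul, LinearMap.smul_apply, hx, smul_zero]
    exact key _ hf
  · intro h
    by_contra hne
    obtain ⟨F, hF0, hF⟩ := Submodule.exists_le_ker_of_lt_top _ (lt_top_iff_ne_top.2 hne)
    let F' : Module.Dual k (Module.Dual k A) := F ∘ₗ (WithConv.linearEquiv k (A →ₗ[k] k)).symm.toLinearMap
    obtain ⟨a, ha⟩ := (Module.evalEquiv k A).surjective F'
    have ha0 : ∀ x : CartDual.D k A, F x = x.ofConv a := by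
      intro x
      have := LinearMap.congr_fun ha x.ofConv
      exact this.symm
    have hVa : V a = 0 := by
      funext i
      show ((φ i) ^ p).ofConv a = 0
      rw [← ha0]
      exact hF (Submodule.subset_span ⟨i, rfl⟩)
    have : a = 0 := h (hVa.trans (map_zero V).symm)
    exact hF0 (LinearMap.ext fun x => by rw [ha0, this, map_zero]; rfl)

end Groth.Agent.VerschLib29
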